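import Groth.Agent.GeomProp.SmoothCrit
import Groth.Agent.GeomProp.RegLocal
import Groth.Agent.RegLocus.Smooth

/-!
Generic smoothness in characteristic zero and Bertini for generated linear systems (affine part).
-/

set_option autoImplicit false

namespace Groth.Agent.GenBertini

open TensorProduct

universe u

/-- Over a perfect field regular algebras of finite type are smooth. -/
theorem smooth_of_regular (K S : Type u) [Field K] [PerfectField K] [CommRing S] [Algebra K S]
    [Algebra.FiniteType K S] [IsRegularRing S] : Algebra.Smooth K S :=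
  GeomProp.smooth_of_geomRegular K S fun k' _ _ hk' => by
    haveI := hk'
    haveI : Algebra.IsSeparable K k' := inferInstance
    haveI : Algebra.FormallyEtale K k' := Algebra.FormallyEtale.of_isSeparable K k'
    haveI : Algebra.Smooth K k' := ⟨inferInstance, Algebra.FinitePresentation.of_finiteType.1 inferInstance⟩
    haveI : IsRegularRing (S ⊗[K] k') := RegLocus.isRegularRing_of_smooth S (S ⊗[K] k')
    exact IsRegularRing.of_ringEquiv (Algebra.TensorProduct.comm K S k').toRingEquiv

open Algebra in
/-- Generic smoothness: a regular finite type algebra over a domain of characteristic zero is smooth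
over a nonempty open of the base. -/
theorem exists_smooth_away (R B : Type u) [CommRing R] [IsDomain R] [CharZero R] [IsNoetherianRing R] [CommRing B] [Algebra R B]
    [Algebra.FiniteType R B] [IsRegularRing B] :
    ∃ g : R, g ≠ 0 ∧ Algebra.FormallySmooth R (Localization.Away (algebraMap R B g)) := by
  classical
  haveI : Algebra.FinitePresentation R B := Algebra.FinitePresentation.of_finiteType.1 inferInstance
  let K := FractionRing R
  let S := K ⊗[R] B
  letI : Algebra B S := Algebra.TensorProduct.rightAlgebra
  let M := Algebra.algebraMapSubmonoid B (nonZeroDivisors R)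
  haveI hloc : IsLocalization M S := IsLocalization.tensorRight K (nonZeroDivisors R)
  haveI : IsRegularRing S := GeomProp.isRegularRing_of_isLocalization M ‹IsRegularRing B›
  haveI : CharZero K := charZero_of_injective_algebraMap (IsFractionRing.injective R K)
  haveI : Algebra.FiniteType K S := inferInstance
  haveI hKS : Algebra.Smooth K S := smooth_of_regular K S
  obtain ⟨J, hJ⟩ := (PrimeSpectrum.isClosed_iff_zeroLocus_ideal _).1
    (Algebra.isOpen_smoothLocus (R := R) (A := B)).isClosed_compl
  have hmeet : ¬ Disjoint (J : Set B) (M : Set B) := fun hd => by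
    obtain ⟨Q, hQ, hJQ, hQM⟩ := Ideal.exists_le_prime_disjoint J M hd
    haveI := hQ
    have hQmem : (⟨Q, hQ⟩ : PrimeSpectrum B) ∈ Algebra.smoothLocus R B := by
      have hu : ∀ y : M, IsUnit (algebraMap B (Localization.AtPrime Q) y) := fun y =>
        IsLocalization.map_units (Localization.AtPrime Q)
          (⟨y.1, fun hy => Set.disjoint_left.1 hQM hy y.2⟩ : Q.primeCompl)
      let φ : S →+* Localization.AtPrime Q := IsLocalization.lift hu
      letI : Algebra S (Localization.AtPrime Q) := φ.toAlgebra
      haveI : IsScalarTower B S (Localization.AtPrime Q) :=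
        IsScalarTower.of_algebraMap_eq fun x => (IsLocalization.lift_eq hu x).symm
      haveI : IsScalarTower R B S := IsScalarTower.of_algebraMap_eq fun x => by
        rw [Algebra.TensorProduct.algebraMap_apply, RingHom.algebraMap_toAlgebra]
        show algebraMap R K x ⊗ₜ[R] (1 : B) = 1 ⊗ₜ[R] algebraMap R B x
        rw [Algebra.algebraMap_eq_smul_one, Algebra.algebraMap_eq_smul_one, TensorProduct.smul_tmul]
      haveI : IsScalarTower R S (Localization.AtPrime Q) :=
        IsScalarTower.of_algebraMap_eq (R := R) (S := S) (A := Localization.AtPrime Q) fun x => by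
        rw [IsScalarTower.algebraMap_apply R B S, ← IsScalarTower.algebraMap_apply B S,
          ← IsScalarTower.algebraMap_apply R B]
      haveI : Algebra.FormallyEtale B (Localization.AtPrime Q) := .of_isLocalization Q.primeCompl
      haveI : Algebra.FormallyEtale B S := .of_isLocalization M
      haveI : Algebra.FormallyEtale S (Localization.AtPrime Q) := .of_restrictScalars (R := B)
      haveI : Algebra.FormallyEtale R K := .of_isLocalization (nonZeroDivisors R)
      haveI : Algebra.FormallySmooth R S := .comp R K S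
      exact Algebra.FormallySmooth.comp R S (Localization.AtPrime Q)
    have : (⟨Q, hQ⟩ : PrimeSpectrum B) ∈ PrimeSpectrum.zeroLocus (J : Set B) := hJQ
    rw [← hJ] at this
    exact this hQmem
  obtain ⟨_, hxJ, g, hg, rfl⟩ := Set.not_disjoint_iff.1 hmeet
  refine ⟨g, nonZeroDivisors.ne_zero hg, (Algebra.basicOpen_subset_smoothLocus_iff).1 fun Q hQ => ?_⟩
  by_contra hQn
  have h1 : Q ∈ PrimeSpectrum.zeroLocus (J : Set B) := hJ.le hQn
  exact hQ (h1 hxJ)

open MvPolynomial in
/-- Bertini for a family with a unit among its members. -/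
theorem exists_bound_generated {k A : Type u} [Field k] [CharZero k] [CommRing A] [Algebra k A]
    [Algebra.Smooth k A] {m : ℕ} (c : Fin (m + 1) → A) (i₀ : Fin (m + 1)) (hc : IsUnit (c i₀)) :
    ∃ g : MvPolynomial (Fin (m + 1)) k, g ≠ 0 ∧ ∀ a : Fin (m + 1) → k, eval a g ≠ 0 →
      Algebra.FormallySmooth k (A ⧸ Ideal.span {∑ i, algebraMap k A (a i) * c i}) := by
  classical
  obtain ⟨u, hu⟩ := hc
  let B := MvPolynomial (Fin m) A
  let v : Fin (m + 1) → B := i₀.insertNth (α := fun _ => B)
    (-∑ j, C (↑u⁻¹ * c (i₀.succAbove j)) * X j) (fun j => X j)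
  let ψ : MvPolynomial (Fin (m + 1)) k →ₐ[k] B := aeval v
  letI : Algebra (MvPolynomial (Fin (m + 1)) k) B := ψ.toRingHom.toAlgebra
  haveI : IsScalarTower k (MvPolynomial (Fin (m + 1)) k) B :=
    IsScalarTower.of_algebraMap_eq fun x => (ψ.commutes x).symm
  haveI : Algebra.Smooth A B := ⟨inferInstance, inferInstance⟩
  haveI : Algebra.Smooth k B := Algebra.Smooth.comp k A B
  haveI : IsRegularRing B := GeomProp.isRegularRing_of_smooth k B
  haveI : Algebra.FiniteType (MvPolynomial (Fin (m + 1)) k) B := Algebra.FiniteType.of_restrictScalars_finiteType k _ _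
  obtain ⟨g, hg0, hg⟩ := exists_smooth_away (MvPolynomial (Fin (m + 1)) k) B
  refine ⟨g, hg0, fun a ha => ?_⟩
  let F := ∑ i, algebraMap k A (a i) * c i
  refine Algebra.FormallySmooth.of_comp_surjective fun C' _ _ I hI f => ?_
  letI : Algebra (MvPolynomial (Fin (m + 1)) k) C' := ((algebraMap k C').comp (eval a)).toAlgebra
  haveI : IsScalarTower k (MvPolynomial (Fin (m + 1)) k) C' := IsScalarTower.of_algebraMap_eq fun x => by
    rw [RingHom.algebraMap_toAlgebra]; simp
  let f₀ : B →+* C' ⧸ I := eval₂Hom (f.toRingHom.comp (Ideal.Quotient.mk _))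
    (fun j => algebraMap k (C' ⧸ I) (a (i₀.succAbove j)))
  have hf₀C : ∀ x : A, f₀ (C x) = f (Ideal.Quotient.mk _ x) := fun x => eval₂Hom_C _ _ x
  have hf₀X : ∀ j, f₀ (X j) = algebraMap k (C' ⧸ I) (a (i₀.succAbove j)) := fun j => eval₂Hom_X' _ _ j
  have hsum : ∀ {D : Type u} [CommRing D] [Algebra k D] (φ : A →ₐ[k] D) (t : Fin m → D),
      (∀ j, t j = algebraMap k D (a (i₀.succAbove j))) → φ F = 0 →
      -∑ j, φ (↑u⁻¹ * c (i₀.succAbove j)) * t j = algebraMap k D (a i₀) := by
    intro D _ _ φ t ht hF
    have e : φ F = φ (c i₀) * (algebraMap k D (a i₀) + ∑ j, φ (↑u⁻¹ * c (i₀.succAbove j)) * t j) := by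
      rw [map_sum, Fin.sum_univ_succAbove _ i₀, mul_add, Finset.mul_sum, map_mul, AlgHom.commutes, mul_comm]
      refine congrArg _ (Finset.sum_congr rfl fun j _ => ?_)
      rw [ht, ← mul_assoc, ← map_mul, ← hu, ← mul_assoc, Units.mul_inv, one_mul, map_mul, AlgHom.commutes, mul_comm]
    rw [hF, eq_comm, ← hu, ((u.isUnit).map φ).mul_right_eq_zero] at e
    exact neg_eq_of_add_eq_zero_left e
  let f₁ : B →ₐ[MvPolynomial (Fin (m + 1)) k] C' ⧸ I :=
    { f₀ with
      commutes' := fun p => by
        show f₀ (ψ p) = algebraMap k (C' ⧸ I) (eval a p)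
        induction p using MvPolynomial.induction_on with
        | C x => rw [MvPolynomial.algHom_C, IsScalarTower.algebraMap_apply k A B, algebraMap_eq, hf₀C, eval_C]; exact f.commutes x
        | add p q hp hq => rw [map_add, map_add, map_add, map_add, hp, hq]
        | mul_X p i hp =>
          rw [map_mul, map_mul, map_mul, map_mul, hp, eval_X, aeval_X]
          congr 1
          refine Fin.succAboveCases i₀ ?_ (fun j => ?_) i
          · simp only [v, Fin.insertNth_apply_same, map_neg, map_sum, map_mul, hf₀C]
            refine Eq.trans ?_ (hsum (f.comp (Ideal.Quotient.mkₐ k _)) _ hf₀X (by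
              show f (Ideal.Quotient.mk _ F) = 0
              rw [Ideal.Quotient.eq_zero_iff_mem.2 (Ideal.mem_span_singleton_self F), map_zero]))
            simp
          · simp only [v, Fin.insertNth_apply_succAbove]; exact hf₀X j }
  have hunit : IsUnit (f₁ (ψ g)) := by
    rw [show f₁ (ψ g) = algebraMap k (C' ⧸ I) (eval a g) from f₁.commutes g]
    exact (isUnit_iff_ne_zero.2 ha).map _
  let f₂ : Localization.Away (ψ g) →ₐ[MvPolynomial (Fin (m + 1)) k] C' ⧸ I :=
    { IsLocalization.Away.lift (ψ g) hunit with
      commutes' := fun p => (IsLocalization.Away.lift_eq (ψ g) hunit _).trans (f₁.commutes p) }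
  haveI : Algebra.FormallySmooth (MvPolynomial (Fin (m + 1)) k) (Localization.Away (ψ g)) := hg
  obtain ⟨l, hl⟩ := Algebra.FormallySmooth.comp_surjective (MvPolynomial (Fin (m + 1)) k) (Localization.Away (ψ g)) I hI f₂
  let l' : B →ₐ[MvPolynomial (Fin (m + 1)) k] C' := l.comp (IsScalarTower.toAlgHom _ B _)
  let lA : A →ₐ[k] C' :=
    { l'.toRingHom.comp (C : A →+* B) with
      commutes' := fun x => by
        show l' (algebraMap A B (algebraMap k A x)) = _
        rw [← IsScalarTower.algebraMap_apply, IsScalarTower.algebraMap_apply k (MvPolynomial (Fin (m + 1)) k) B,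
          l'.commutes, ← IsScalarTower.algebraMap_apply] }
  have hl'X : ∀ i, l' (v i) = algebraMap k C' (a i) := fun i => by
    have := l'.commutes (X i)
    rw [show algebraMap (MvPolynomial (Fin (m + 1)) k) B (X i) = v i from aeval_X v i] at this
    rw [this, RingHom.algebraMap_toAlgebra]; simp
  have hlF : lA F = 0 := by
    have e := hl'X i₀
    simp only [v, Fin.insertNth_apply_same, map_neg, map_sum, map_mul] at e
    have e' : lA (c i₀) * (algebraMap k C' (a i₀) + ∑ j, lA (↑u⁻¹ * c (i₀.succAbove j)) * l' (X j)) = lA F := by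
      rw [map_sum lA, Fin.sum_univ_succAbove _ i₀, mul_add, Finset.mul_sum, map_mul, AlgHom.commutes, mul_comm]
      refine congrArg _ (Finset.sum_congr rfl fun j _ => ?_)
      have hX : l' (X j) = algebraMap k C' (a (i₀.succAbove j)) := by
        simpa [v] using hl'X (i₀.succAbove j)
      rw [hX, ← mul_assoc, ← map_mul, ← hu, ← mul_assoc, Units.mul_inv, one_mul, map_mul, AlgHom.commutes, mul_comm]
    rw [← e', ← e]
    have hC : ∀ x : A, l' (C x) = lA x := fun x => rfl
    simp [hC]
  refine ⟨Ideal.Quotient.liftₐ _ lA (fun x hx => ?_), ?_⟩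
  · obtain ⟨y, rfl⟩ := Ideal.mem_span_singleton'.1 hx
    rw [map_mul, hlF, mul_zero]
  · refine Ideal.Quotient.algHom_ext k (AlgHom.ext fun x => ?_)
    show Ideal.Quotient.mk I (l (algebraMap B _ (C x))) = f (Ideal.Quotient.mk _ x)
    have := congrArg (fun φ => φ (algebraMap B (Localization.Away (ψ g)) (C x))) hl
    refine (show Ideal.Quotient.mk I (l (algebraMap B _ (C x))) = f₂ (algebraMap B _ (C x)) from this).trans ?_
    exact (IsLocalization.Away.lift_eq (ψ g) hunit _).trans (hf₀C x)

end Groth.Agent.GenBertini
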