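import Groth.Agent.GenBertini.Basic
import Groth.Agent.ZeroSch.Over

/-! Bertini for generated linear systems in characteristic zero. -/

set_option autoImplicit false
set_option backward.isDefEq.respectTransparency false

noncomputable section

namespace Groth.Agent.GenBertini

open CategoryTheory AlgebraicGeometry TopologicalSpace Opposite ZeroSch
open Groth.Agent.QC (res resO res_res res_smul resO_resO res_self resO_self)
open TMul (IsGen val res_val)

universe u

variable {k : Type u} [Field k] {Y : Scheme.{u}} [Y.Over (Spec (CommRingCat.of k))]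
  [Smooth (Y ↘ Spec (CommRingCat.of k))] {L : Y.Modules}

theorem exists_bound_affine [CharZero k] (hL : PicF.IsInvertible L) {U : Y.Opens} (hU : IsAffineOpen U) {e : Γ(L, U)}
    (he : IsGen e) {m : ℕ} (s : Fin (m + 1) → (Coh.structureModule Y ⟶ L)) (i₀ : Fin (m + 1)) {c₀ : Γ(Y, U)}
    (hc₀ : val (s i₀) U = c₀ • e) (hu : IsUnit c₀) :
    ∃ g : MvPolynomial (Fin (m + 1)) k, g ≠ 0 ∧ ∀ a : Fin (m + 1) → k, MvPolynomial.eval a g ≠ 0 →
      ((Ideal.Quotient.mk ((PicF2.zeroScheme L
        (∑ i : Fin (m + 1), Formal.smulMod k (Coh.structureModule Y) (a i) ≫ s i)).ideal ⟨U, hU⟩)).comp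
          (cst k U)).Smooth := by
  letI : Algebra k Γ(Y, U) := (cst k U).toAlgebra
  haveI : Algebra.Smooth k Γ(Y, U) := RingHom.smooth_algebraMap.1 (formallySmooth_cst hU)
  have hb : Function.Bijective fun t : Γ(Y, U) => t • e := by simpa only [res_self] using he U le_rfl
  choose co hco using fun t : Γ(L, U) => hb.2 t
  replace hco : ∀ t, co t • e = t := hco
  have hc : IsUnit (co (val (s i₀) U)) := by
    rwa [hb.1 (show co (val (s i₀) U) • e = c₀ • e by rw [hco, hc₀])]
  obtain ⟨g, hg0, hg⟩ := exists_bound_generated (k := k) (fun i => co (val (s i) U)) i₀ hc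
  refine ⟨g, hg0, fun a ha => ?_⟩
  let I := (PicF2.zeroScheme L (∑ i : Fin (m + 1), Formal.smulMod k (Coh.structureModule Y) (a i) ≫ s i)).ideal ⟨U, hU⟩
  have hI : I = Ideal.span {∑ i, algebraMap k Γ(Y, U) (a i) * co (val (s i) U)} := by
    refine ideal_zeroScheme_eq_span _ hL ⟨U, hU⟩ he ?_
    rw [val_sum, Finset.sum_smul]
    refine Finset.sum_congr rfl fun i _ => ?_
    rw [val_smulMod_comp, mul_smul, hco]
    rfl
  haveI : Algebra.FormallySmooth k (Γ(Y, U) ⧸ I) := by
    have := hg a ha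
    exact .of_equiv (Ideal.quotientEquivAlgOfEq k hI).symm
  haveI : Algebra.FiniteType k (Γ(Y, U) ⧸ I) :=
    Algebra.FiniteType.of_surjective (Ideal.Quotient.mkₐ k I) Ideal.Quotient.mk_surjective
  haveI : Algebra.Smooth k (Γ(Y, U) ⧸ I) := ⟨inferInstance, Algebra.FinitePresentation.of_finiteType.1 inferInstance⟩
  exact RingHom.smooth_algebraMap.2 (inferInstance : Algebra.Smooth k (Γ(Y, U) ⧸ I))

/-- A chart on which one of generating sections is a generator. -/
theorem exists_gen_chart {X : Scheme.{u}} {M : X.Modules} (hM : PicF.IsInvertible M) {n : ℕ}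
    (s : Fin n → (Coh.structureModule X ⟶ M)) (hgen : ⨆ i, PicF2.zeroScheme M (s i) = ⊤) (x : X) :
    ∃ W : X.affineOpens, x ∈ W.1 ∧ ∃ (e : Γ(M, W.1)) (i : Fin n) (c : Γ(X, W.1)),
      IsGen e ∧ val (s i) W.1 = c • e ∧ IsUnit c := by
  obtain ⟨V, e, hxV, he⟩ := TMul.exists_isGen hM x
  obtain ⟨_, ⟨W, hW, rfl⟩, hxW, hWV⟩ :=
    X.isBasis_affineOpens.exists_subset_of_mem_open (show x ∈ (V : Set X) from hxV) V.isOpen
  let e' : Γ(M, W) := res M hWV e
  have he' : IsGen e' := he.res hWV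
  choose c hc using fun i => (he' W le_rfl).2 (val (s i) W)
  simp only [res_self] at hc
  have htop : (⨆ i, Ideal.span {c i} : Ideal Γ(X, W)) = ⊤ := by
    have h := congrArg (fun I => Scheme.IdealSheafData.ideal I ⟨W, hW⟩) hgen
    simp only [Scheme.IdealSheafData.ideal_iSup, iSup_apply, Scheme.IdealSheafData.ideal_top, Pi.top_apply] at h
    rw [← h]
    exact iSup_congr fun i => (ideal_zeroScheme_eq_span (s i) hM ⟨W, hW⟩ he' (hc i).symm).symm
  obtain ⟨i, hi⟩ : ∃ i, x ∈ X.basicOpen (c i) := by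
    by_contra hall
    push Not at hall
    refine (hW.primeIdealOf ⟨x, hxW⟩).2.ne_top (top_le_iff.1 (htop.ge.trans (iSup_le fun i => ?_)))
    rw [Ideal.span_singleton_le_iff_mem]
    by_contra hni
    refine hall i ?_
    have := (hW.fromSpec_preimage_basicOpen (c i)).ge (show hW.primeIdealOf ⟨x, hxW⟩ ∈ PrimeSpectrum.basicOpen (c i) from hni)
    replace this : hW.fromSpec (hW.primeIdealOf ⟨x, hxW⟩) ∈ X.basicOpen (c i) := this
    rwa [hW.fromSpec_primeIdealOf] at this
  refine ⟨⟨X.basicOpen (c i), hW.basicOpen (c i)⟩, hi, res M (X.basicOpen_le (c i)) e', i,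
    resO X (X.basicOpen_le (c i)) (c i), he'.res _, ?_, ZeroSch.isUnit_res (c i)⟩
  rw [← res_smul, hc i, res_val]

theorem exists_smooth_member [CharZero k] [QuasiCompact (Y ↘ Spec (CommRingCat.of k))]
    (hL : FlatMod.IsFinLocFreeOfRank 1 L) (m : ℕ) (s : Fin (m + 1) → (Coh.structureModule Y ⟶ L))
    (hgen : ⨆ i : Fin (m + 1), PicF2.zeroScheme L (s i) = ⊤) :
    ∃ p : MvPolynomial (Fin (m + 1)) k, p ≠ 0 ∧ ∀ c : Fin (m + 1) → k, MvPolynomial.eval c p ≠ 0 →
      Smooth ((PicF2.zeroScheme L (∑ i : Fin (m + 1), Formal.smulMod k (Coh.structureModule Y) (c i) ≫ s i)).subschemeι ≫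
        (Y ↘ Spec (CommRingCat.of k))) := by
  classical
  have hL' := isInvertible_of_rankOne hL
  haveI : CompactSpace Y := HasAffineProperty.iff_of_isAffine.1 ‹QuasiCompact (Y ↘ Spec (CommRingCat.of k))›
  choose W hxW e i c he hc hu using exists_gen_chart hL' s hgen
  obtain ⟨t, ht⟩ := CompactSpace.elim_nhds_subcover (fun x => ((W x).1 : Set Y))
    fun x => (W x).1.isOpen.mem_nhds (hxW x)
  choose g hg0 hg using fun x : Y => exists_bound_affine (k := k) hL' (W x).2 (he x) s (i x) (hc x) (hu x)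
  refine ⟨∏ x ∈ t, g x, Finset.prod_ne_zero_iff.2 fun x _ => hg0 x, fun a ha => ?_⟩
  rw [map_prod, Finset.prod_ne_zero_iff] at ha
  refine smooth_subscheme _ (fun j : t => W j.1) (fun x => ?_) fun j => hg j.1 a (ha j.1 j.2)
  have : x ∈ ⋃ x ∈ t, ((W x).1 : Set Y) := ht.ge (Set.mem_univ x)
  simp only [Set.mem_iUnion] at this
  obtain ⟨j, hj, hxj⟩ := this
  exact ⟨⟨j, hj⟩, hxj⟩

end Groth.Agent.GenBertini
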